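import Mathlib

set_option autoImplicit false
universe u v w

namespace Groth.Agent.CompleteSurjLib
open IsLocalRing

/-- A homomorphism out of a complete local ring which is onto modulo the maximal ideal and onto on
cotangent spaces is surjective. -/
theorem surjective_of_cotangent {k : Type w} {R : Type u} {S : Type v} [Field k] [CommRing R] [CommRing S]
    [IsLocalRing R] [IsLocalRing S] [IsNoetherianRing S] [Algebra k R] [Algebra k S]
    [IsPrecomplete (maximalIdeal R) R] [IsAdicComplete (maximalIdeal S) S]
    (hS : Function.Surjective ((residue S).comp (algebraMap k S))) (φ : R →ₐ[k] S)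
    (hφ : (maximalIdeal R).map φ ≤ maximalIdeal S)
    (h : maximalIdeal S ≤ (maximalIdeal R).map φ ⊔ maximalIdeal S ^ 2) : Function.Surjective φ := by
  have he : (maximalIdeal R).map φ = maximalIdeal S := le_antisymm hφ
    (Submodule.le_of_le_smul_of_le_jacobson_bot (IsNoetherian.noetherian _)
      (jacobson_eq_maximalIdeal ⊥ bot_ne_top).ge (by rwa [smul_eq_mul, ← sq]))
  haveI : IsHausdorff ((maximalIdeal R).map φ.toRingHom) S := by
    rw [show (maximalIdeal R).map φ.toRingHom = maximalIdeal S from he]; infer_instance
  refine surjective_of_mk_map_comp_surjective (I := maximalIdeal R) φ.toRingHom fun y => ?_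
  obtain ⟨y, rfl⟩ := Ideal.Quotient.mk_surjective y
  obtain ⟨c, hc⟩ := hS (residue S y)
  refine ⟨algebraMap k R c, ?_⟩
  change Ideal.Quotient.mk _ (φ (algebraMap k R c)) = _
  rw [AlgHom.commutes, Ideal.Quotient.eq]
  change _ ∈ (maximalIdeal R).map φ
  rw [he, ← Ideal.Quotient.eq]
  exact hc

end Groth.Agent.CompleteSurjLib
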