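import Mathlib

set_option autoImplicit false
universe u v w

namespace Groth.Agent.CompleteSurjLib

variable {R : Type u} [CommRing R] {M : Type v} [AddCommGroup M] [Module R M]

/-- Submodules of a module with finitely presented finitely generated submodules have the same property. -/
theorem coh_sub (hM : ∀ P : Submodule R M, P.FG → Module.FinitePresentation R P) (L : Submodule R M)
    (P : Submodule R L) (hP : P.FG) : Module.FinitePresentation R P := by
  haveI := hM _ (hP.map L.subtype)
  exact Module.FinitePresentation.of_equiv (Submodule.equivMapOfInjective L.subtype L.injective_subtype P).symm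

/-- The quotient by a finitely generated submodule. -/
theorem coh_quot (hM : ∀ P : Submodule R M, P.FG → Module.FinitePresentation R P) (L : Submodule R M)
    (hL : L.FG) (P : Submodule R (M ⧸ L)) (hP : P.FG) : Module.FinitePresentation R P := by
  classical
  obtain ⟨s, hs⟩ := hP
  choose g hg using fun y : M ⧸ L => L.mkQ_surjective y
  set P' : Submodule R M := Submodule.span R (g '' (s : Set (M ⧸ L))) ⊔ L
  have hP' : P'.FG := (Submodule.fg_span (s.finite_toSet.image g)).sup hL
  have himg : P'.map L.mkQ = P := by
    rw [Submodule.map_sup, Submodule.map_span, Set.image_image]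
    simp only [hg, Set.image_id']
    rw [hs, Submodule.mkQ_map_self, sup_bot_eq]
  haveI := hM P' hP'
  let f : P' →ₗ[R] P := (L.mkQ ∘ₗ P'.subtype).codRestrict P fun x => himg ▸ Submodule.mem_map_of_mem x.2
  refine Module.finitePresentation_of_surjective f (fun y => ?_) ?_
  · have hy : (y : M ⧸ L) ∈ P'.map L.mkQ := by rw [himg]; exact y.2
    obtain ⟨x, hx, hxy⟩ := Submodule.mem_map.1 hy
    exact ⟨⟨x, hx⟩, Subtype.ext hxy⟩
  · have hk : LinearMap.ker f = L.comap P'.subtype := by
      rw [LinearMap.ker_codRestrict, LinearMap.ker_comp, Submodule.ker_mkQ]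
    rw [hk, ← Submodule.fg_map_iff P'.subtype P'.injective_subtype,
      Submodule.map_comap_subtype, inf_eq_right.2 le_sup_right]
    exact hL

end Groth.Agent.CompleteSurjLib
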